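import Cfsg.Agent.Lib.GeomClasses.OrthSubspaceTools
import Cfsg.Agent.Lib.GeomClasses.OrthPair
import Cfsg.Agent.Lib.GeomClasses.OrthRatMax
import Cfsg.Agent.Lib.GeomClasses.OrthTransport
import Cfsg.Agent.Lib.GeomClasses.OrthCplxField
import Cfsg.Agent.Lib.GeomClasses.FrameMax
import Cfsg.Agent.Lib.GeomClasses.Decomp
import Cfsg.Agent.Lib.ExtFieldOrth.Main

/-!
Maximal subgroups of geometric type of even-dimensional orthogonal groups of dimension at least ten:
the classes not given by decompositions into several pieces.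
-/

set_option autoImplicit false

namespace CfsgLib.OmegaTwelve

open Matrix CfsgLib.GeomClasses

variable {F : Type*} [Field F] [Fintype F] {n : ℕ} {Q : (Fin n → F) → F}

theorem two_ne_zero_of_odd (hodd : Odd (Fintype.card F)) : (2 : F) ≠ 0 :=
  Ring.two_ne_zero fun hc => (Nat.not_even_iff_odd.2 hodd) (Nat.even_iff.2 (FiniteField.even_card_of_char_two hc))

theorem two_eq_zero_of_even (hev : ¬ Odd (Fintype.card F)) : (2 : F) = 0 := by
  by_contra h2
  exact hev (Nat.odd_iff.2 (FiniteField.odd_card_of_char_ne_two fun hc => h2 (by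
    haveI : CharP F 2 := ringChar.of_eq hc
    exact CharTwo.two_eq_zero)))

/-- Totally singular subspaces, other than those of dimension one less than the maximum. -/
theorem singular (hn : 10 ≤ n) (hQ : Cfsg.Geo.IsNondegenerateQuadraticForm Q) {W : Submodule F (Fin n → F)}
    (hW0 : W ≠ ⊥) (hW : Cfsg.Geo.IsTotallySingularQuad Q W)
    (hdim : 2 * (Module.finrank F W + 1) ≠ n ∨ ¬ Cfsg.Geo.IsPlusTypeOn Q ⊤) :
    Cfsg.Geo.IsMaximalIn (Cfsg.Geo.omegaGL Q) (Cfsg.Geo.subspaceStabilizer W ⊓ Cfsg.Geo.omegaGL Q) := by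
  classical
  have hq := OrthTools.quadOf_nondegenerate hQ
  refine OrthEich.maximal_transport hQ ?_
  refine OrthSubspace.maximal_singular hq (by simp; omega) hW0 hW fun U hts hU h => ?_
  rcases hdim with hdim | hminus
  · exact hdim (by rw [← hU, h, Fintype.card_fin])
  · exact hminus ⟨U, le_top, hts, by rw [h, finrank_top, Module.finrank_fintype_fun_eq_card]⟩

/-- Non-degenerate subspaces. -/
theorem nondegenerate (hn : 10 ≤ n) (hQ : Cfsg.Geo.IsNondegenerateQuadraticForm Q) {W : Submodule F (Fin n → F)}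
    (hW0 : W ≠ ⊥) (hW1 : W ≠ ⊤) (hW : Cfsg.Geo.IsNondegenerateOn (QuadraticMap.polar Q) W)
    (hdim : 2 * Module.finrank F W ≠ n ∨
      (¬ Cfsg.Geo.IsPlusTypeOn Q ⊤ ∧ Even (Module.finrank F W)))
    (hne : Module.finrank F W + 2 ≠ n)
    (hex : Module.finrank F W = 2 → Fintype.card F ≤ 3 → ¬ Cfsg.Geo.IsPlusTypeOn Q W) :
    Cfsg.Geo.IsMaximalIn (Cfsg.Geo.omegaGL Q) (Cfsg.Geo.subspaceStabilizer W ⊓ Cfsg.Geo.omegaGL Q) := by
  classical
  have hq := OrthTools.quadOf_nondegenerate hQ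
  refine OrthEich.maximal_transport hQ ?_
  set q := CfsgLib.Maximal.TensorTools.quadOf hQ
  have hW' : ∀ x ∈ W, x ≠ 0 → ∃ y ∈ W, QuadraticMap.polar q x y ≠ 0 := fun x hx hx0 => (hW x hx hx0).2
  have hι : Fintype.card (Fin n) = n := Fintype.card_fin n
  have hU := OrthTools.finrank_orth hq W
  have hWle := Submodule.finrank_le W
  rw [Module.finrank_fintype_fun_eq_card] at hWle
  have hnd' := OrthTools.orth_nondegenerate hq hW'
  by_cases hle : 2 * Module.finrank F W ≤ n
  · refine OrthSubspace.maximal_nondegenerate hq (by omega) hW0 hW' (by omega) (fun h g _ hgx => ?_) ?_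
      (Or.inl (by omega))
    · rcases hdim with hdim | ⟨hminus, hev⟩
      · exact hdim (by omega)
      · obtain ⟨X, hX, hXq⟩ := OrthSubspace.plus_of_swap hq (k := Module.finrank F W) hev (by omega) rfl hW' hgx
        exact hminus ⟨X, le_top, hXq, by rw [hX, finrank_top, Module.finrank_fintype_fun_eq_card]; omega⟩
    · rintro ⟨h2W, h3, s, hs, hs0, hqs⟩
      refine hex h2W h3 ⟨Submodule.span F {s}, (Submodule.span_singleton_le_iff_mem _ _).2 hs, fun x hx => ?_,
        by rw [finrank_span_singleton hs0, h2W]⟩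
      obtain ⟨c, rfl⟩ := Submodule.mem_span_singleton.1 hx
      show q (c • s) = 0
      rw [QuadraticMap.map_smul, hqs, smul_zero]
  · rw [← OrthSubspace.stab_orth hq W]
    refine OrthSubspace.maximal_nondegenerate hq (by omega) (fun h => ?_) hnd' (by omega) (fun h => by omega) ?_
      (Or.inl (by omega))
    · refine hW1 ?_
      rw [← OrthSubspace.orth_orth hq W, h]
      exact eq_top_iff.2 fun x _ => OrthTools.mem_orth.2 fun y hy => by
        rw [(Submodule.mem_bot F).1 hy, QuadraticMap.polar_zero_left]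
    · rintro ⟨h2U, -, -⟩
      omega

/-- Non-singular points in characteristic two. -/
theorem point_two (hn : 10 ≤ n) (hQ : Cfsg.Geo.IsNondegenerateQuadraticForm Q) (hev : ¬ Odd (Fintype.card F))
    {v : Fin n → F} (hv : Q v ≠ 0) :
    Cfsg.Geo.IsMaximalIn (Cfsg.Geo.omegaGL Q)
      (Cfsg.Geo.subspaceStabilizer (Submodule.span F {v}) ⊓ Cfsg.Geo.omegaGL Q) := by
  classical
  have hq := OrthTools.quadOf_nondegenerate hQ
  refine OrthEich.maximal_transport hQ ?_
  exact OrthSubspace.maximal_line hq (by simp; omega) (two_eq_zero_of_even hev) hv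

/-- Frames over a prime field. -/
theorem frame (hn : 10 ≤ n) (hQ : Cfsg.Geo.IsNondegenerateQuadraticForm Q) {p : ℕ} (hp : p.Prime) (hodd : Odd p)
    (hF : Fintype.card F = p) {t : ℕ} (D : Fin t → Submodule F (Fin n → F))
    (hD : Cfsg.Geo.IsOrthogonalMDecomposition Q 1 D) :
    Cfsg.Geo.IsMaximalIn (Cfsg.Geo.omegaGL Q) (Cfsg.Geo.decompositionStabilizer D ⊓ Cfsg.Geo.omegaGL Q) :=
  Frame.maximal_omegaGL' hQ (two_ne_zero_of_odd (hF ▸ hodd)) (Or.inr (by simp; omega)) (hF ▸ hp) hD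

/-- Normalisers of self-adjoint fields of small degree. -/
theorem field_sa (hn : 10 ≤ n) (hQ : Cfsg.Geo.IsNondegenerateQuadraticForm Q) (hodd : Odd (Fintype.card F))
    {r : ℕ} (hr : r.Prime) (hrn : 4 * r ≤ n) (K : Subalgebra F (Matrix (Fin n) (Fin n) F))
    (hK : Cfsg.Geo.IsFieldSubalgebra r K) (hsa : Cfsg.Geo.IsSelfAdjointFor (QuadraticMap.polar Q) K) :
    Cfsg.Geo.IsMaximalIn (Cfsg.Geo.omegaGL Q) (Cfsg.Geo.subalgebraNormalizer K ⊓ Cfsg.Geo.omegaGL Q) := by
  refine CfsgLib.ExtFieldOrth.maximal_field (by simp; omega) hQ hodd hr K hK (fun s hs => ?_) hsa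
  rw [Fintype.card_fin] at hs
  exact Nat.le_of_mul_le_mul_left (by rw [hs, mul_comm]; exact hrn) hr.pos

/-- Normalisers of fields giving a unitary structure. -/
theorem field_unitary (hn : 10 ≤ n) (hQ : Cfsg.Geo.IsNondegenerateQuadraticForm Q)
    (K : Subalgebra F (Matrix (Fin n) (Fin n) F)) (hK : Cfsg.Geo.IsFieldSubalgebra 2 K)
    (hac : Cfsg.Geo.IsAdjointClosedFor (QuadraticMap.polar Q) K)
    (hnsa : ¬ Cfsg.Geo.IsSelfAdjointFor (QuadraticMap.polar Q) K)
    (hsc : ∀ k ∈ K, ∃ c : F, ∀ v : Fin n → F, Q (k *ᵥ v) = c * Q v) :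
    Cfsg.Geo.IsMaximalIn (Cfsg.Geo.omegaGL Q) (Cfsg.Geo.subalgebraNormalizer K ⊓ Cfsg.Geo.omegaGL Q) :=
  OrthCplx.maximal_field (by simp; omega) hQ K hK hac hnsa hsc

/-- Subfield subgroups. -/
theorem subfield (hn : 10 ≤ n) (hQ : Cfsg.Geo.IsNondegenerateQuadraticForm Q) (F₀ : Subfield F) {r : ℕ}
    (hr : r.Prime) (hcard : Fintype.card F = Nat.card F₀ ^ r) (P : Matrix.GeneralLinearGroup (Fin n) F) {ζ : F}
    (hζ : ζ ≠ 0) (hP : Cfsg.Geo.IsQuadFormRationalStructure (fun v : Fin n → F => ζ * Q v) F₀ P) :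
    Cfsg.Geo.IsMaximalIn (Cfsg.Geo.omegaGL Q) (Cfsg.Geo.subfieldSubgroup F₀ P ⊓ Cfsg.Geo.omegaGL Q) := by
  classical
  have hiso : Cfsg.isometryGroup F (fun v => ζ * Q v) = Cfsg.isometryGroup F Q := by
    ext g
    exact ⟨fun h u v => mul_left_cancel₀ hζ (h u v), fun h u v => congrArg (ζ * ·) (h u v)⟩
  have hΩ : Cfsg.Geo.omegaGL (fun v => ζ * Q v) = Cfsg.Geo.omegaGL Q := by
    rw [OrthTransport.omegaGL_eq, OrthTransport.omegaGL_eq, hiso]
  have hp : ∀ u v, QuadraticMap.polar (fun v => ζ * Q v) u v = ζ * QuadraticMap.polar Q u v := fun u v => by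
    simp only [QuadraticMap.polar]; ring
  have hQζ : Cfsg.Geo.IsNondegenerateQuadraticForm (fun v => ζ * Q v) := by
    refine ⟨fun c v => ?_, ⟨?_, ?_, ?_, ?_⟩, fun x hx => ?_⟩
    · simp only [hQ.smul]; ring
    · intro a b c; simp only [hp, hQ.polar_bilinear.add_left]; ring
    · intro a b c; simp only [hp, hQ.polar_bilinear.smul_left]; ring
    · intro a b c; simp only [hp, hQ.polar_bilinear.add_right]; ring
    · intro a b c; simp only [hp, hQ.polar_bilinear.smul_right]; ring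
    obtain ⟨⟨y, hy⟩, ⟨y', hy'⟩⟩ := hQ.nondegenerate x hx
    exact ⟨⟨y, by rw [hp]; exact mul_ne_zero hζ hy⟩, ⟨y', by rw [hp]; exact mul_ne_zero hζ hy'⟩⟩
  have hQ' := OrthTransport.nondegenerate_comp hQζ P
  have S : OrthRat.Rat (CfsgLib.Maximal.TensorTools.quadOf hQ') F₀ :=
    ⟨OrthTools.quadOf_nondegenerate hQ', by simp; omega, fun u hu => hP u hu⟩
  haveI := Fintype.ofFinite F₀
  have h := OrthTransport.maximal_map (Q := fun v => ζ * Q v) P (S := SympRoot.ratScalar F₀ (Fin n))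
    (OrthPair.maximal_transport hQ' (OrthRat.maximal S hr hcard))
  rw [← hΩ]
  exact h

/-- Pairs of totally singular subspaces of even dimension. -/
theorem singular_pair (hn : 10 ≤ n) (hQ : Cfsg.Geo.IsNondegenerateQuadraticForm Q) {k : ℕ} (hk : 2 * k = n)
    (hke : Even k) (D : Fin 2 → Submodule F (Fin n → F)) (hD : Cfsg.Geo.IsMDecomposition k D)
    (hts : ∀ i, Cfsg.Geo.IsTotallySingularQuad Q (D i)) :
    Cfsg.Geo.IsMaximalIn (Cfsg.Geo.omegaGL Q) (Cfsg.Geo.decompositionStabilizer D ⊓ Cfsg.Geo.omegaGL Q) := by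
  have P : OrthPair.Pair (CfsgLib.Maximal.TensorTools.quadOf hQ) D k :=
    ⟨OrthTools.quadOf_nondegenerate hQ, by simp; omega, hD, fun i x hx => by simpa using hts i x hx, by omega⟩
  exact OrthPair.maximal_transport hQ (P.maximal hke)

/-- Two orthogonal halves which are not isometric. -/
theorem nonisometric_pair (hn : 10 ≤ n) (hQ : Cfsg.Geo.IsNondegenerateQuadraticForm Q) {k : ℕ} (hk : 2 * k = n)
    (D : Fin 2 → Submodule F (Fin n → F))
    (hD : Cfsg.Geo.IsNondegenerateMDecomposition (QuadraticMap.polar Q) k D)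
    (hni : ¬ Cfsg.Geo.AreIsometricFor Q (D 0) (D 1)) :
    Cfsg.Geo.IsMaximalIn (Cfsg.Geo.omegaGL Q) (Cfsg.Geo.decompositionStabilizer D ⊓ Cfsg.Geo.omegaGL Q) := by
  classical
  have hq := OrthTools.quadOf_nondegenerate hQ
  refine OrthPair.maximal_transport hQ ?_
  set q := CfsgLib.Maximal.TensorTools.quadOf hQ
  have hι : Fintype.card (Fin n) = n := Fintype.card_fin n
  have hW' : ∀ x ∈ D 0, x ≠ 0 → ∃ y ∈ D 0, QuadraticMap.polar q x y ≠ 0 := fun x hx hx0 =>
    (hD.nondegenerate 0 x hx hx0).2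
  have hd := hD.decomp.finrank_eq
  have horth : D 1 = OrthTools.orth q (D 0) := by
    refine Submodule.eq_of_le_of_finrank_eq (fun x hx => OrthTools.mem_orth.2 fun y hy => ?_) ?_
    · exact hD.orthogonal 0 1 (by decide) y hy x hx
    · rw [OrthTools.finrank_orth hq, hd 0, hd 1, hι]; omega
  have hiso : ∀ g : CfsgLib.Orth.O q, ¬ ∀ x ∈ D 0, CfsgLib.Orth.app g x ∈ D 1 := by
    intro g hg
    let f : D 0 →ₗ[F] D 1 := LinearMap.codRestrict (D 1) ((CfsgLib.Orth.app g).domRestrict (D 0)) fun x => hg x x.2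
    have hf : Function.Injective f := fun x y h =>
      Subtype.ext (CfsgLib.Orth.app_injective g (congrArg Subtype.val h))
    exact hni ⟨LinearEquiv.ofInjectiveOfFinrankEq f hf (by rw [hd 0, hd 1]), fun w => CfsgLib.Orth.Q_app g _⟩
  have hstab : (Cfsg.Geo.decompositionStabilizer D).comap (CfsgLib.Orth.O q).subtype = OrthEich.stab q (D 0) := by
    ext g
    constructor
    · intro hg
      obtain ⟨σ, hσ⟩ := mem_decompositionStabilizer.1 hg
      have hmem : ∀ x ∈ D 0, CfsgLib.Orth.app g x ∈ D (σ 0) := fun x hx => by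
        rw [← hσ 0]; exact ⟨x, hx, Matrix.toLin'_apply _ _⟩
      rcases (show σ 0 = 0 ∨ σ 0 = 1 by omega) with h | h <;> rw [h] at hmem
      · exact OrthEich.mem_stab.2 hmem
      · exact absurd hmem (hiso g)
    · intro hg
      refine Decomp.mem_stabilizer_of_image hD.decomp fun i => ⟨i, ?_⟩
      rcases (show i = 0 ∨ i = 1 by omega) with rfl | rfl
      · exact OrthEich.mem_stab.1 hg
      · rw [horth]; exact OrthEich.mem_stab.1 (OrthSubspace.stab_le_stab_orth hq _ hg)
  rw [hstab]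
  refine OrthSubspace.maximal_nondegenerate hq (by omega) (fun h => ?_) hW' (by rw [hd 0]; omega)
    (fun _ g _ => by rw [← horth]; exact hiso g) (fun h => by rw [hd 0] at h; omega)
    (hU5 := Or.inl (by rw [hd 0]; omega))
  have := hd 0
  rw [h, finrank_bot] at this
  omega

end CfsgLib.OmegaTwelve
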