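import Cfsg.Agent.Lib.OmegaTwelve.Basic
import Cfsg.Agent.Lib.GeomClasses.OrthDecompAll

/-!
Maximal subgroups of geometric type of orthogonal groups of dimension ten and twelve:
orthogonal decompositions.
-/

set_option autoImplicit false

namespace CfsgLib.OmegaTwelve

open Matrix CfsgLib.GeomClasses

variable {F : Type*} [Field F] [Fintype F] {n : ℕ} {Q : (Fin n → F) → F}

/-- A sum of orthogonal pieces of plus type is of plus type. -/
theorem plus_of_plus (hQ : Cfsg.Geo.IsNondegenerateQuadraticForm Q) {t k : ℕ}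
    {D : Fin t → Submodule F (Fin n → F)} (hD : Cfsg.Geo.IsOrthogonalMDecomposition Q k D)
    (hp : ∀ i, Cfsg.Geo.IsPlusTypeOn Q (D i)) : Cfsg.Geo.IsPlusTypeOn Q ⊤ := by
  classical
  choose U hUD hU hUd using hp
  have hd := hD.decomp.decomp
  let q := CfsgLib.Maximal.TensorTools.quadOf hQ
  let f : ((i : Fin t) → U i) →ₗ[F] (Fin n → F) := ∑ i, (U i).subtype ∘ₗ LinearMap.proj i
  have hf : ∀ u, f u = ∑ i, (u i : Fin n → F) := fun u => by simp [f]
  have hinj : Function.Injective f := fun a b hab => funext fun i => Subtype.ext (by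
    have h1 := Decomp.comp_sum hd (fun i => (a i : Fin n → F)) (fun i => hUD i (a i).2) i
    have h2 := Decomp.comp_sum hd (fun i => (b i : Fin n → F)) (fun i => hUD i (b i).2) i
    rw [← hf] at h1 h2
    rw [← h1, ← h2, hab])
  refine ⟨LinearMap.range f, le_top, ?_, ?_⟩
  · rintro _ ⟨u, rfl⟩
    show Q (f u) = 0
    rw [hf]
    have key : ∀ s : Finset (Fin t), q (∑ i ∈ s, (u i : Fin n → F)) = 0 := by
      intro s
      induction s using Finset.induction with
      | empty => rw [Finset.sum_empty, QuadraticMap.map_zero]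
      | insert a s ha ih =>
        rw [Finset.sum_insert ha, QuadraticMap.map_add ⇑q, ih, show q (u a : Fin n → F) = 0 from hU a _ (u a).2,
          zero_add, zero_add, show QuadraticMap.polar q (u a : Fin n → F) (∑ j ∈ s, (u j : Fin n → F)) =
            ∑ j ∈ s, QuadraticMap.polar q (u a : Fin n → F) (u j : Fin n → F) from map_sum (q.polarBilin (u a : Fin n → F)) _ _]
        refine Finset.sum_eq_zero fun j hj => ?_
        exact hD.decomp.orthogonal a j (fun h => ha (h ▸ hj)) _ (hUD a (u a).2) _ (hUD j (u j).2)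
    exact key Finset.univ
  · rw [LinearMap.finrank_range_of_inj hinj, Module.finrank_pi_fintype, Finset.mul_sum, finrank_top]
    rw [Finset.sum_congr rfl fun i _ => hUd i]
    have hi := Decomp.isInternal hd
    rw [← (LinearEquiv.ofBijective (DirectSum.coeLinearMap D) hi).finrank_eq, Module.finrank_directSum]

/-- Orthogonal decompositions into pieces of dimension at least two, for small dimensions. -/
theorem decomposition (hn : 10 ≤ n) (hQ : Cfsg.Geo.IsNondegenerateQuadraticForm Q) {t k : ℕ}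
    {D : Fin t → Submodule F (Fin n → F)} (hD : Cfsg.Geo.IsOrthogonalMDecomposition Q k D) (hk : 2 ≤ k)
    (h5t : k = 2 → 5 ≤ t) (h4t : k = 3 → 4 ≤ t ∧ Odd (Fintype.card F) ∧ Fintype.card F ≠ 3)
    (h23 : k = 2 → Fintype.card F ≠ 3)
    (h2s : k = 2 → (∀ i, Cfsg.Geo.IsPlusTypeOn Q (D i)) → 7 ≤ Fintype.card F)
    (h42 : k = 4 → Fintype.card F = 2 → ¬ ∀ i, Cfsg.Geo.IsPlusTypeOn Q (D i)) :
    Cfsg.Geo.IsMaximalIn (Cfsg.Geo.omegaGL Q) (Cfsg.Geo.decompositionStabilizer D ⊓ Cfsg.Geo.omegaGL Q) :=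
  OrthDecomp.maximal_omegaGL_small hQ (by simp; omega) hD hk h5t (fun h => (h4t h).1)
    (fun h2 h => two_ne_zero_of_odd (h4t h).2.1 h2) (fun h => (h4t h.1).2.2 h.2) (fun h => h23 h.1 h.2)
    (fun h hp hq => by have := h2s h hp; omega) h42

end CfsgLib.OmegaTwelve
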