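import Cfsg.Agent.Lib.OmegaTwelve.Decomp

/-!
Maximal subgroups of geometric type of the orthogonal group of minus type in dimension twelve, given the tensor case.
-/

set_option autoImplicit false
open Cfsg

namespace CfsgLib.OmegaTwelve

open CfsgLib

theorem minus_twelve {F : Type*} [Field F] [Fintype F] (Q : (Fin 12 → F) → F) (hQ : Cfsg.Geo.IsNondegenerateQuadraticForm Q) (hminus : ¬ Cfsg.Geo.IsPlusTypeOn Q ⊤)
    (tensor : (Odd (Fintype.card F) ∧ 5 ≤ Fintype.card F → ∀ (e : Fin 12 ≃ Fin 3 × Fin 4) (P : Matrix.GeneralLinearGroup (Fin 12) F) (f₁ : (Fin 3 → F) → (Fin 3 → F) → F) (f₂ : (Fin 4 → F) → (Fin 4 → F) → F), Cfsg.Geo.IsSymmetricForm f₁ → Cfsg.Geo.IsSymmetricForm f₂ → ¬ Cfsg.Geo.IsPlusTypeOn (fun v : Fin 4 → F => f₂ v v) ⊤ → Cfsg.Geo.IsTensorFormStructure id (QuadraticMap.polar Q) f₁ f₂ e P → Cfsg.Geo.IsMaximalIn (Cfsg.Geo.omegaGL Q) (Cfsg.Geo.tensorProductSubgroup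 3 4 e P ⊓ Cfsg.Geo.omegaGL Q))) :
    (∀ W : Submodule F (Fin 12 → F), W ≠ ⊥ → Cfsg.Geo.IsTotallySingularQuad Q W → Cfsg.Geo.IsMaximalIn (Cfsg.Geo.omegaGL Q) (Cfsg.Geo.subspaceStabilizer W ⊓ Cfsg.Geo.omegaGL Q)) ∧
    (Odd (Fintype.card F) → ∀ W : Submodule F (Fin 12 → F), W ≠ ⊥ → W ≠ ⊤ → Odd (Module.finrank F W) → 2 * Module.finrank F W ≠ 12 → Cfsg.Geo.IsNondegenerateOn (QuadraticMap.polar Q) W → Cfsg.Geo.IsMaximalIn (Cfsg.Geo.omegaGL Q) (Cfsg.Geo.subspaceStabilizer W ⊓ Cfsg.Geo.omegaGL Q)) ∧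
    (∀ W : Submodule F (Fin 12 → F), Module.finrank F W = 2 → Cfsg.Geo.IsNondegenerateOn (QuadraticMap.polar Q) W → ¬ Cfsg.Geo.IsPlusTypeOn Q W → Cfsg.Geo.IsMaximalIn (Cfsg.Geo.omegaGL Q) (Cfsg.Geo.subspaceStabilizer W ⊓ Cfsg.Geo.omegaGL Q)) ∧
    (4 ≤ Fintype.card F → ∀ W : Submodule F (Fin 12 → F), Module.finrank F W = 2 → Cfsg.Geo.IsNondegenerateOn (QuadraticMap.polar Q) W → Cfsg.Geo.IsPlusTypeOn Q W → Cfsg.Geo.IsMaximalIn (Cfsg.Geo.omegaGL Q) (Cfsg.Geo.subspaceStabilizer W ⊓ Cfsg.Geo.omegaGL Q)) ∧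
    (∀ W : Submodule F (Fin 12 → F), Module.finrank F W = 4 → Cfsg.Geo.IsNondegenerateOn (QuadraticMap.polar Q) W → Cfsg.Geo.IsMaximalIn (Cfsg.Geo.omegaGL Q) (Cfsg.Geo.subspaceStabilizer W ⊓ Cfsg.Geo.omegaGL Q)) ∧
    (∀ W : Submodule F (Fin 12 → F), Module.finrank F W = 6 → Cfsg.Geo.IsNondegenerateOn (QuadraticMap.polar Q) W → Cfsg.Geo.IsMaximalIn (Cfsg.Geo.omegaGL Q) (Cfsg.Geo.subspaceStabilizer W ⊓ Cfsg.Geo.omegaGL Q)) ∧
    (¬ Odd (Fintype.card F) → ∀ v : (Fin 12 → F), Q v ≠ 0 → Cfsg.Geo.IsMaximalIn (Cfsg.Geo.omegaGL Q) (Cfsg.Geo.subspaceStabilizer (Submodule.span F {v}) ⊓ Cfsg.Geo.omegaGL Q)) ∧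
    (∀ D : Fin 3 → Submodule F (Fin 12 → F), Cfsg.Geo.IsOrthogonalMDecomposition Q 4 D → (∀ i, ¬ Cfsg.Geo.IsPlusTypeOn Q (D i)) → Cfsg.Geo.IsMaximalIn (Cfsg.Geo.omegaGL Q) (Cfsg.Geo.decompositionStabilizer D ⊓ Cfsg.Geo.omegaGL Q)) ∧
    (Odd (Fintype.card F) → ∀ K : Subalgebra F (Matrix (Fin 12) (Fin 12) F), Cfsg.Geo.IsFieldSubalgebra 2 K → Cfsg.Geo.IsSelfAdjointFor (QuadraticMap.polar Q) K → Cfsg.Geo.IsMaximalIn (Cfsg.Geo.omegaGL Q) (Cfsg.Geo.subalgebraNormalizer K ⊓ Cfsg.Geo.omegaGL Q)) ∧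
    (Odd (Fintype.card F) → ∀ K : Subalgebra F (Matrix (Fin 12) (Fin 12) F), Cfsg.Geo.IsFieldSubalgebra 3 K → Cfsg.Geo.IsSelfAdjointFor (QuadraticMap.polar Q) K → Cfsg.Geo.IsMaximalIn (Cfsg.Geo.omegaGL Q) (Cfsg.Geo.subalgebraNormalizer K ⊓ Cfsg.Geo.omegaGL Q)) ∧
    (Odd (Fintype.card F) ∧ 5 ≤ Fintype.card F → ∀ (e : Fin 12 ≃ Fin 3 × Fin 4) (P : Matrix.GeneralLinearGroup (Fin 12) F) (f₁ : (Fin 3 → F) → (Fin 3 → F) → F) (f₂ : (Fin 4 → F) → (Fin 4 → F) → F), Cfsg.Geo.IsSymmetricForm f₁ → Cfsg.Geo.IsSymmetricForm f₂ → ¬ Cfsg.Geo.IsPlusTypeOn (fun v : Fin 4 → F => f₂ v v) ⊤ → Cfsg.Geo.IsTensorFormStructure id (QuadraticMap.polar Q) f₁ f₂ e P → Cfsg.Geo.IsMaximalIn (Cfsg.Geo.omegaGL Q) (Cfsg.Geo.tensorProductSubgroup 3 4 e P ⊓ Cfsg.Geo.omegaGL Q)) ∧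
    (∀ (F₀ : Subfield F) (r : ℕ) (P : Matrix.GeneralLinearGroup (Fin 12) F) (ζ : F), r.Prime → Odd r → Fintype.card F = Nat.card F₀ ^ r → ζ ≠ 0 → Cfsg.Geo.IsQuadFormRationalStructure (fun v : Fin 12 → F => ζ * Q v) F₀ P → Cfsg.Geo.IsMaximalIn (Cfsg.Geo.omegaGL Q) (Cfsg.Geo.subfieldSubgroup F₀ P ⊓ Cfsg.Geo.omegaGL Q)) := by
  have hbot : ∀ W : Submodule F (Fin 12 → F), 0 < Module.finrank F W → W ≠ ⊥ := fun W h e => by
    rw [e, finrank_bot] at h; omega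
  have htop : ∀ W : Submodule F (Fin 12 → F), Module.finrank F W < 12 → W ≠ ⊤ := fun W h e => by
    rw [e, finrank_top, Module.finrank_fintype_fun_eq_card, Fintype.card_fin] at h; omega
  have hodd_nd : ∀ W : Submodule F (Fin 12 → F), W ≠ ⊥ → W ≠ ⊤ → Odd (Module.finrank F W) →
      2 * Module.finrank F W ≠ 12 → Cfsg.Geo.IsNondegenerateOn (QuadraticMap.polar Q) W →
      Cfsg.Geo.IsMaximalIn (Cfsg.Geo.omegaGL Q) (Cfsg.Geo.subspaceStabilizer W ⊓ Cfsg.Geo.omegaGL Q) := by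
    intro W h0 h1 ho hne hW
    obtain ⟨a, ha⟩ := ho
    exact OmegaTwelve.nondegenerate (by norm_num) hQ h0 h1 hW (Or.inl hne) (by omega) fun h => by omega
  have hminus2 : ∀ W : Submodule F (Fin 12 → F), Module.finrank F W = 2 →
      Cfsg.Geo.IsNondegenerateOn (QuadraticMap.polar Q) W → ¬ Cfsg.Geo.IsPlusTypeOn Q W →
      Cfsg.Geo.IsMaximalIn (Cfsg.Geo.omegaGL Q) (Cfsg.Geo.subspaceStabilizer W ⊓ Cfsg.Geo.omegaGL Q) :=
    fun W hd hW hm => OmegaTwelve.nondegenerate (by norm_num) hQ (hbot W (by omega)) (htop W (by omega)) hW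
      (Or.inl (by omega)) (by omega) fun _ _ => hm
  have hplus2 : 4 ≤ Fintype.card F → ∀ W : Submodule F (Fin 12 → F), Module.finrank F W = 2 →
      Cfsg.Geo.IsNondegenerateOn (QuadraticMap.polar Q) W → Cfsg.Geo.IsPlusTypeOn Q W →
      Cfsg.Geo.IsMaximalIn (Cfsg.Geo.omegaGL Q) (Cfsg.Geo.subspaceStabilizer W ⊓ Cfsg.Geo.omegaGL Q) :=
    fun h4 W hd hW _ => OmegaTwelve.nondegenerate (by norm_num) hQ (hbot W (by omega)) (htop W (by omega)) hW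
      (Or.inl (by omega)) (by omega) fun _ h3 => absurd h3 (by omega)
  have hfour : ∀ W : Submodule F (Fin 12 → F), Module.finrank F W = 4 →
      Cfsg.Geo.IsNondegenerateOn (QuadraticMap.polar Q) W →
      Cfsg.Geo.IsMaximalIn (Cfsg.Geo.omegaGL Q) (Cfsg.Geo.subspaceStabilizer W ⊓ Cfsg.Geo.omegaGL Q) :=
    fun W hd hW => OmegaTwelve.nondegenerate (by norm_num) hQ (hbot W (by omega)) (htop W (by omega)) hW
      (Or.inl (by omega)) (by omega) fun h => by omega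
  refine ⟨fun W h0 hW => OmegaTwelve.singular (by norm_num) hQ h0 hW (Or.inr hminus),
    fun _ W h0 h1 ho hne hW => hodd_nd W h0 h1 ho hne hW, hminus2, hplus2, hfour, fun W hd hW => ?_,
    fun hev v hv => OmegaTwelve.point_two (by norm_num) hQ hev hv, fun D hD hm => ?_, ?_, ?_, tensor, ?_⟩
  · exact OmegaTwelve.nondegenerate (by norm_num) hQ (hbot W (by omega)) (htop W (by omega)) hW
      (Or.inr ⟨hminus, by rw [hd]; decide⟩) (by omega) fun h => by omega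
  · exact OmegaTwelve.decomposition (by norm_num) hQ hD (by norm_num) (fun h => by omega) (fun h => by omega)
      (fun h => by omega) (fun h => by omega) (fun _ _ hp => hm 0 (hp 0))
  · intro hodd K hK hsa
    exact OmegaTwelve.field_sa (by norm_num) hQ hodd Nat.prime_two (by norm_num) K hK hsa
  · intro hodd K hK hsa
    exact OmegaTwelve.field_sa (by norm_num) hQ hodd Nat.prime_three (by norm_num) K hK hsa
  · intro F₀ r P ζ hr _ hcard hζ hP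
    exact OmegaTwelve.subfield (by norm_num) hQ F₀ hr hcard P hζ hP

end CfsgLib.OmegaTwelve
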